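import Cfsg.Agent.Ff.STh
import Cfsg.Agent.Kf.SHN

/-! Quadratic subgroups of the Harada–Norton group. -/

set_option autoImplicit false
set_option maxRecDepth 1000000

namespace CF.Ff

namespace SHN

open Subgroup Cfsg CF.HNR CF.Comp CF.Bt CF.Dce CF.Kf
open CF.Comp.HN hiding Q0

local notation "z" => ΘL (E [13, 3])
local notation "𝐜" => ΘL (E [13])

variable (M : Md L)

theorem x_out : ΘL (E [21]) ∉ M.K 𝐜 := fun h => by
  have h1 := rel_of_lany rels_b (w := [2, 7, 1, 7, 7]) (by decide +kernel)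
  have h2 := rel_of_lany rels_b (w := wpow [7] 5) (by decide +kernel)
  have e := td_ne
  rw [ΘL_eq [21] [1], ΘL_eq [13] [1, 1]] at h
  simp only [ev_cons, ev_wpow, ev_nil, mul_one, evL_odd b 0, evL_odd b 3, evL_even b 0] at h h1 h2 e
  have h3 : (b 0)⁻¹ * b 3 * b 0 = (b 3 ^ 2)⁻¹ := eq_inv_of_mul_eq_one_left (by rw [← h1, pow_two]; group)
  have n : b 0 * b 3 * (b 0)⁻¹ = b 3 ^ 2 := by
    have : (b 0)⁻¹ * b 3 ^ 2 * b 0 = b 3 := by
      rw [show (b 0)⁻¹ * b 3 ^ 2 * b 0 = ((b 0)⁻¹ * b 3 * b 0) ^ 2 by rw [pow_two, pow_two]; group, h3, inv_pow, ← pow_mul,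
        inv_eq_iff_mul_eq_one, ← pow_succ, h2]
    conv_lhs => rw [← this]
    group
  refine e (M.r5' (j := 2) ((by decide : Odd 5).of_dvd_nat (orderOf_dvd_of_pow_eq_one h2)) ?_ n h).symm
  rw [show b 0 * b 0 * b 3 * (b 0 * b 0)⁻¹ = b 0 * (b 0 * b 3 * (b 0)⁻¹) * (b 0)⁻¹ by group, n, ← conj_pow, n,
    ← pow_mul, eq_inv_iff_mul_eq_one, ← pow_succ, h2]

theorem cK (k : KK) : Commute (ΘL k) 𝐜 :=
  mem_centralizer_singleton_iff.1 (cenL.tw.im_top.le ⟨k, trivial, rfl⟩)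

theorem KN {k : KK} (h : ΘL k ∈ M.K 𝐜) (n : k ∈ N2) : k = 1 ∨ k = E [13] := by
  haveI := simple_HS'
  obtain ⟨h1, ⟨e⟩, -⟩ := cover_N2
  have dN : E [13] ∈ N2 := inn_iff.1 (by decide +kernel)
  have ce : ∀ y : N2, (e.toMonoidHom.comp (QuotientGroup.mk' _)) y = 1 → y.1 = 1 ∨ y.1 = E [13] := fun y hy =>
    (eq_or_of_card (A := center N2) (c := ⟨_, dN⟩) h1.le
      (mem_center_iff.2 fun g => Subtype.ext (cenL.inj (by rw [coe_mul, coe_mul, map_mul, map_mul]; exact (cK g.1).eq)))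
      (fun e => d_ne (congrArg Subtype.val e))
      ((QuotientGroup.eq_one_iff y).1 (e.injective (hy.trans (map_one e).symm)))).imp
      (congrArg Subtype.val) (congrArg Subtype.val)
  rcases simple_cases (N := N2) (H := (M.K 𝐜).comap ΘL) (ρ := e.toMonoidHom.comp (QuotientGroup.mk' _))
    (e.surjective.comp (QuotientGroup.mk'_surjective _)) (fun g _ => mem_normalizer_fintype fun y hy => by
      simpa using Md.conj_mem_K hy (cK g)) with s | s
  · exact ce ⟨k, n⟩ (s _ h)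
  · obtain ⟨y, hy, q⟩ := s ⟨E [21], inn_iff.1 (by decide +kernel)⟩
    refine absurd ?_ (x_out M)
    rcases ce (y⁻¹ * ⟨E [21], inn_iff.1 (by decide +kernel)⟩) (by rw [map_mul, map_inv, q, inv_mul_cancel]) with r | r
    · exact (inv_mul_eq_one.1 r : y.1 = E [21]) ▸ hy
    · rw [(inv_mul_eq_iff_eq_mul.1 r : E [21] = y.1 * E [13]), map_mul]
      exact mul_mem hy (Md.self_mem_K (by rw [← map_mul, d_sq, map_one]))

theorem ca {B : Subgroup L} {k : ℕ} (q : M.Qd B) (m : 𝐜 ∈ B) (h : Nat.card B = 2 ^ k) : k + 1 < M.d 𝐜 := by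
  haveI := Finite.of_injective _ cenL.inj
  have h1 := T4a.card_inf (A := B.comap ΘL) (B := N2) (S := ⊤) le_top le_top
  have h2 : Nat.card ↥(N2 ⊓ B.comap ΘL) ≤ 2 := (card_le_of_le (H := N2 ⊓ B.comap ΘL) (K := zpowers (E [13]))
    fun g hg => (KN M (q.le_K m hg.2) hg.1).elim (· ▸ one_mem _) (· ▸ mem_zpowers _)).trans (by
      rw [Nat.card_zpowers, orderOf_eq_prime (p := 2) (by rw [pow_two, d_sq]) d_ne])
  rw [T4a.card_comap _ cenL.inj (fun g hg => cenL.cen g (Md.mem_K.1 (q.le_K m hg)).1), h, card_top,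
    ← N2.index_mul_card, index_K2, ← mul_assoc] at h1
  have h3 : 2 ^ k ≤ 2 ^ 2 := (Nat.le_of_mul_le_mul_right h1 Nat.card_pos).trans (by omega)
  rw [Nat.pow_le_pow_iff_right one_lt_two] at h3
  by_contra l
  rcases KN M (k := E [19, 29]) (M.g1p (p := 11) (c := 10) (by norm_num) (by decide) (od_of (by decide) (by decide))
    (by omega) (by rw [← map_pow, pw1 _ 11 [], E_nil]) (cK _)) (inn_iff.1 (by decide +kernel)) with e | e
  exacts [ne1 [19, 29] [] (by decide +kernel) e, ne1 _ _ (by decide +kernel) e]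

/-- an element of order four -/
def gw : List ℕ := [4, 2, 3, 3, 3, 3, 2, 3, 1, 1]

/-- the same element -/
noncomputable def gk : List ℕ := subst [[37], [39]] gw

/-- an element of order five -/
noncomputable def xk : List ℕ := [36, 2] ++ gk ++ winv [36, 2] ++ winv gk

theorem g_out : ev fH gw ∉ M.K z := fun h => by
  rw [fH_C (by decide)] at h
  have := M.r5' (x := ΘL (E xk)) (j := 2)
    ((by decide : Odd 5).of_dvd_nat (orderOf_dvd_of_pow_eq_one (by rw [← map_pow, pw1 _ 5 [], E_nil])))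
    (by rw [← map_inv, ← map_mul, ← map_mul, cj1 _ _ (winv xk), ← map_inv]; exact congrArg ΘL (ev_winv _ _))
    (by rw [← map_inv, ← map_mul, ← map_mul, cj1 _ _ (wpow xk 2), ← map_pow]; exact congrArg ΘL (ev_wpow _ _ _)) h
  rw [Commute, SemiconjBy, ← map_mul, mul1 _ _ [13, 3], ← map_mul, ← map_mul] at this
  exact nc1 _ _ (by decide +kernel) (cenL.inj this)

theorem Kz {g : L} (h : g ∈ M.K z) : g = 1 ∨ g = z := by
  obtain ⟨ψ, s, e, k, -⟩ := exists_ψ
  have c0 : centralizer (Q0 : Set PP) ≤ Q0 := nq Q0_ab fun h => by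
    obtain ⟨u, hu, e⟩ := lany_iff.1 (by decide +kernel : lany (fun u =>
      difW XP 120 7 (u ++ [43]) ([43] ++ u)) PQ.qs = true)
    exact neP _ _ e (by rw [ev_append, ev_append]; exact h _ (ev_mem_clo _ hu))
  have hN : (((M.K z).subgroupOf HH).map ψ).Normal :=
    Normal.map (normal_subgroupOf_of_le_normalizer (Kf.SHN.cz ▸ Md.norm_K z)) ψ s
  have i : ((M.K z).subgroupOf HH).map ψ ⊓ Q0 = ⊥ := by
    by_contra n
    obtain ⟨⟨x, hx⟩, x1⟩ := ne_bot_iff_exists_ne_one.1 n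
    have cj : ∀ {y}, IsConj x y → y ∈ ((M.K z).subgroupOf HH).map ψ := fun j => by
      obtain ⟨u, rfl⟩ := isConj_iff.1 j
      exact hN.conj_mem _ hx.1 u
    have : V [39] ∈ ((M.K z).subgroupOf HH).map ψ := by
      rcases clsP (Q0_sq hx.2) with h | h | h | h | h | h | h
      · exact absurd (Subtype.ext h) x1
      · rw [Kf.SHN.two [35] [35] [39] [1, 7] [4, 7]]
        exact mul_mem (hN.conj_mem _ (cj h) _) (hN.conj_mem _ (cj h) _)
      · rw [Kf.SHN.two [37] [37] [39] [] [4]]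
        exact mul_mem (hN.conj_mem _ (cj h) _) (hN.conj_mem _ (cj h) _)
      · exact cj h
      all_goals exact absurd (Q0_cj h hx.2) (out_Q0 (by simp))
    obtain ⟨y, hy, q⟩ := hN.conj_mem _ this (V [63, 5])
    rw [eqP.conj (b := gw) (by decide +kernel), ← e] at q
    refine g_out M ?_
    rcases lift_eq k q.symm with q | q
    · rw [show ev fH gw = y.1 from q]; exact hy
    · rw [show ev fH gw = y.1 * z from q]; exact mul_mem hy (Md.self_mem_K Kf.SHN.zz)
  have m : ψ ⟨g, Kf.SHN.cz.le h.1⟩ ∈ ((M.K z).subgroupOf HH).map ψ := mem_map_of_mem ψ h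
  exact (k _).1 (mem_bot.1 (i.le ⟨m, c0 (commutator_eq_bot_iff_le_centralizer.1
    (eq_bot_iff.2 ((commutator_le_inf _ _).trans i.le)) m)⟩))

theorem cb {B : Subgroup L} {k : ℕ} (q : M.Qd B) (m : z ∈ B) (h : Nat.card B = 2 ^ k) : k + 1 < M.d z := by
  have h3 : 2 ^ k ≤ 2 ^ 1 := h.ge.trans ((card_le_of_le (K := zpowers z) fun g hg =>
    (Kz M (q.le_K m hg)).elim (· ▸ one_mem _) (· ▸ mem_zpowers _)).trans (by
      rw [Nat.card_zpowers, orderOf_eq_prime (p := 2) (by rw [pow_two, Kf.SHN.zz]) Kf.SHN.z1]; rfl))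
  rw [Nat.pow_le_pow_iff_right one_lt_two] at h3
  by_contra l
  rcases Kz M (g := ΘL (E [39, 38, 40, 37, 39, 39, 37, 37])) (M.g1p (p := 5) (c := 4) (by norm_num) (by decide)
    (od_of (by decide) (by decide)) (by omega) (by rw [← map_pow, pw1 _ 5 [], E_nil])
    (by rw [Commute, SemiconjBy, ← map_mul, cm1 [39, 38, 40, 37, 39, 39, 37, 37] [13, 3], map_mul])) with e | e
  exacts [ne1 _ [] (by decide +kernel) (cenL.inj (e.trans (map_one _).symm)), ne1 _ _ (by decide +kernel) (cenL.inj e)]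

theorem fi : FI L 1 := STh.fi_cls fun M A k q h l => by
  obtain ⟨a, ha, n⟩ := STh.ex_ne h l
  rcases HNR.two (Φ := MonoidHom.id L) Function.injective_id cenL
    (orderOf_eq_prime (by rw [pow_two, q.sq ha]) n) with j | j
  exacts [⟨a, ha, _, j, fun B q m _ h => ca M q m h⟩, ⟨a, ha, _, j, fun B q m _ h => cb M q m h⟩]

end SHN

theorem fi_HN : FI Cfsg.Spor.HN 1 := SHN.fi.of_equiv Comp.HN.eT

end CF.Ff
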