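import Cfsg.Agent.Ff.T1
import Cfsg.Agent.Ff.T4a
import Cfsg.Agent.Kf.STh

/-! Quadratic subgroups of the Thompson group. -/

set_option autoImplicit false
set_option maxRecDepth 1000000

namespace CF.Ff

open Subgroup Cfsg

namespace STh

variable {G : Type*} [Group G]

/-- it is enough to look at class representatives -/
theorem fi_cls {e : ℕ} (h : ∀ (M : Md G) (A : Subgroup G) (k : ℕ), M.Qd A → Nat.card A = 2 ^ k → 1 ≤ k →
    ∃ a ∈ A, ∃ t, IsConj a t ∧ ∀ B, M.Qd B → t ∈ B → (∀ x ∈ B, ∃ y ∈ A, IsConj y x) →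
      Nat.card B = 2 ^ k → k + e < M.d t) : FI G e := fun M A k q c l => by
  obtain ⟨a, ha, t, j, h⟩ := h M A k q c l
  refine ⟨a, ha, M.d_isConj j ▸ ?_⟩
  obtain ⟨g, rfl⟩ := isConj_iff.1 j
  refine h (A.map (MulAut.conj g).toMonoidHom) ?_ ⟨a, ha, rfl⟩ ?_
    ((card_map_of_injective (MulAut.conj g).injective).trans c)
  · rintro _ ⟨x, hx, rfl⟩ _ ⟨y, hy, rfl⟩
    exact (q x hx y hy).conj g
  · rintro _ ⟨x, hx, rfl⟩
    exact ⟨x, hx, isConj_iff.2 ⟨g, rfl⟩⟩

theorem ex_ne {A : Subgroup G} {k : ℕ} (c : Nat.card A = 2 ^ k) (l : 1 ≤ k) : ∃ a ∈ A, a ≠ 1 := by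
  by_contra! h
  rw [(eq_bot_iff_forall A).2 h, card_bot] at c
  exact absurd (Nat.one_lt_two_pow (by omega)) c.not_lt

theorem le_rank {M : Md G} {B Q : Subgroup G} {k r : ℕ} (q : M.Qd B) (h : B ≤ Q) (c : Nat.card B = 2 ^ k)
    (p : PRankLE 2 r Q) : k ≤ r := by
  have := p (B.subgroupOf Q) ⟨⟨fun a b => Subtype.ext (Subtype.ext (q.comm a.2 b.2))⟩⟩
    fun a m => Subtype.ext (by rw [sq]; exact q.sq m)
  rwa [Nat.card_congr (subgroupOfEquivOfLe h).toEquiv, c, Nat.pow_le_pow_iff_right one_lt_two] at this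

theorem rank_xs [Finite G] {r : ℕ} (h : IsExtraspecial 2 G) (c : Nat.card G ≤ 2 ^ (2 * r + 1)) :
    PRankLE 2 (r + 1) G := by
  obtain ⟨y, y1, hy⟩ := (Nat.card_eq_two_iff' (1 : center G)).1 h.2
  have ce : center G ≤ zpowers y.1 := fun x hx => by
    by_cases e : (⟨x, hx⟩ : center G) = 1
    · rw [show x = 1 from congrArg Subtype.val e]; exact one_mem _
    · rw [show x = y.1 from congrArg Subtype.val (hy _ e)]; exact mem_zpowers _
  refine rank_ex (z := y.1) ?_ (fun a b => ce (h.1.2.2.le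
    (commutator_mem_commutator (mem_top a) (mem_top b)))) ce c
  have := pow_card_eq_one' (x := y)
  rw [h.2, sq] at this
  exact congrArg Subtype.val this

open CF.Dce CF.Dce.Th CF.Comp CF.Bt CF.Kf

theorem oc {u : L} (h : u * u = 1) (n : u ≠ 1) : IsConj u (ev b [1]) := by
  simpa using eT.toMonoidHom.map_isConj (Kf.STh.one_cls (eT.symm (ev b [1])) (eT.symm u)
    (by rw [MulEquiv.orderOf_eq, (struct_C rels_b a_ne).choose_spec.2.2.2])
    (by rw [MulEquiv.orderOf_eq]; exact orderOf_eq_prime (by rwa [sq]) n))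

theorem fi : FI L 0 := fi_cls fun M A k q c l => by
  obtain ⟨a, ha, n⟩ := ex_ne c l
  refine ⟨a, ha, _, oc (q.sq ha) n, fun B q m _ c => ?_⟩
  have he := eqvK (sub0 rels_b)
  have hn := nevK (sub0 rels_b) a_ne
  obtain ⟨ρ, s, kr⟩ := Kf.STh.struct rels_b a_ne
  obtain ⟨x1, x2, -⟩ := xs_spec he hn (z := [1]) (qs := QS) (by decide +kernel)
  replace x1 : Nat.card (clo b QW) = 2 ^ 9 := x1
  haveI := alternatingGroup.isSimpleGroup (α := Fin 9) (by simp)
  have RN : clo b QW ≤ clo b C1 := clo_le_of_wordIn (by decide +kernel)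
  have kk : ∀ x : clo b C1, ρ x = 1 ↔ x.1 ∈ clo b QW := fun x => by rw [← MonoidHom.mem_ker, kr]; rfl
  rcases simple_cases s (cent_a ▸ Md.norm_K (M := M) (ev b [1])) with e | e
  · have KQ : M.K (ev b [1]) ≤ clo b QW := fun x hx => (kk ⟨x, cent_a.le hx.1⟩).1 (e _ hx)
    have := le_rank q ((q.le_K m).trans KQ) c (rank_xs (r := 4) x2 x1.le)
    by_contra h
    have h1 := (relIndex_dvd_of_le_left _ KQ).trans (M.g1 (n := 5) (by omega))
    rw [cent_a, relIndex, ← kr, index_ker, MonoidHom.range_eq_top.2 s, card_top, nat_card_alternatingGroup,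
      card_GL2] at h1
    revert h1
    simp only [Nat.card_eq_fintype_card, Fintype.card_fin]
    decide
  · exfalso
    obtain ⟨g, hg⟩ := isConj_iff.1 (oc (u := ev b [7]) (by rw [← ev_append]; exact he _ [] (by decide +kernel))
      (hn [7] [] (by decide +kernel)))
    have cm : Commute (ev b [13]) (ev b [7]) := by
      rw [Commute, SemiconjBy, ← ev_append, ← ev_append]; exact he _ _ (by decide +kernel)
    have o {w : List ℕ} {p : ℕ} (h : eqK (wpow w p) [] = true) (k : Odd p) : Odd (orderOf (ev b w)) :=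
      k.of_dvd_nat (orderOf_dvd_of_pow_eq_one ((ev_wpow b w p).symm.trans (he _ _ h)))
    have m1 : g * ev b [13] * g⁻¹ ∈ clo b C1 := cent_a.le (mem_centralizer_singleton_iff.2 (hg ▸ cm.conj g))
    obtain ⟨y, h1, h2⟩ := e ⟨_, m1⟩
    have m2 := M.odd_mem_K (R := clo b QW) (.of_card x1) (cent_a ▸ RN) (y := g * ev b [13] * g⁻¹)
      (((MulAut.conj g).orderOf_eq (ev b [13])).symm ▸ o (w := [13]) (p := 3) (by decide +kernel) (by decide) :) (by
        rw [← mul_inv_cancel_left y.1 (g * ev b [13] * g⁻¹)]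
        exact mul_mem (mem_sup_left h1) (mem_sup_right ((kk (y⁻¹ * ⟨_, m1⟩)).1
          (by rw [map_mul, map_inv, h2, inv_mul_cancel]))))
    have m3 : ev b [13] ∈ M.K (ev b [7]) := by simpa [← hg, mul_assoc] using Md.conj_K m2 g⁻¹
    have := M.r5' (j := 4) (o (w := [11]) (p := 7) (by decide +kernel) (by decide))
      ((he.conj (b := winv [11]) (by decide +kernel)).trans (ev_winv _ _))
      ((he.conj (b := wpow [11] 4) (by decide +kernel)).trans (ev_wpow _ _ _)) m3
    rw [Commute, SemiconjBy, ← ev_append, ← ev_append, ← ev_append] at this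
    exact hn _ _ (by decide +kernel) this

end STh

theorem fi_Th : FI Spor.Th 0 := STh.fi.of_equiv Dce.Th.eT

end CF.Ff
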